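import Mathlib

set_option autoImplicit false
set_option linter.unusedSectionVars false
set_option linter.unusedVariables false
set_option linter.unusedSimpArgs false
set_option linter.style.haveILetI false
set_option maxHeartbeats 400000

/-!
# Bounds for the Hilbert function of a graded algebra finite over a polynomial subalgebra
generated in a single degree
-/

open DirectSum MvPolynomial

universe u

namespace Groth.Agent.Lib.Helper6.HilbDim

section Sup

variable {k : Type*} [Field k] {V : Type*} [AddCommGroup V] [Module k V]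

theorem finrank_finset_sup_le {ι : Type*} [DecidableEq ι] (s : Finset ι) (W : ι → Submodule k V)
    [∀ i, FiniteDimensional k (W i)] :
    FiniteDimensional k ↥(s.sup W) ∧
      Module.finrank k ↥(s.sup W) ≤ ∑ i ∈ s, Module.finrank k (W i) := by
  induction s using Finset.induction_on with
  | empty =>
    rw [Finset.sup_empty, Finset.sum_empty]
    exact ⟨inferInstance, by simp⟩
  | insert a s ha ih =>
    obtain ⟨h1, h2⟩ := ih
    rw [Finset.sup_insert, Finset.sum_insert ha]
    refine ⟨inferInstance, ?_⟩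
    calc Module.finrank k ↥(W a ⊔ s.sup W)
        ≤ Module.finrank k (W a) + Module.finrank k ↥(s.sup W) :=
          Submodule.finrank_add_le_finrank_add_finrank _ _
      _ ≤ _ := by omega

end Sup

variable {k : Type u} [Field k] {A : Type u} [CommRing A] [Algebra k A]
  (𝒜 : ℤ → Submodule k A) [GradedAlgebra 𝒜]
  {r : ℕ} (θ : Fin r → A) (e : ℕ)

theorem sum_smul_eq {t : ℕ} {d : Fin r →₀ ℕ} (hd : Finsupp.weight (1 : Fin r → ℕ) d = t) :
    ∑ i, d i • (e : ℤ) = ((t * e : ℕ) : ℤ) := by
  have h1 : ∑ i, d i = t := by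
    rw [← hd, Finsupp.weight_apply, Finsupp.sum_fintype]
    · simp
    · simp
  rw [← Finset.sum_smul, h1]
  push_cast
  ring

variable {𝒜 θ e}

theorem aeval_mem (hθ : ∀ i, θ i ∈ 𝒜 (e : ℤ)) {t : ℕ} {p : MvPolynomial (Fin r) k}
    (hp : p ∈ homogeneousSubmodule (Fin r) k t) : aeval θ p ∈ 𝒜 ((t * e : ℕ) : ℤ) := by
  rw [aeval_def, eval₂_eq']
  refine Submodule.sum_mem _ (fun d hd => ?_)
  rw [← Algebra.smul_def]
  refine Submodule.smul_mem _ _ ?_
  have h1 := SetLike.prod_pow_mem_graded (A := 𝒜) (F := Finset.univ) (i := fun _ : Fin r => (e : ℤ))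
    (g := θ) (fun i => d i) (fun i _ => hθ i)
  rw [sum_smul_eq e ((mem_homogeneousSubmodule _ _).1 hp (mem_support_iff.1 hd))] at h1
  exact h1

/-- the lower bound -/
theorem finrank_le_of_algebraicIndependent (hθ : ∀ i, θ i ∈ 𝒜 (e : ℤ))
    (hind : AlgebraicIndependent k θ) (t : ℕ) [Module.Finite k (𝒜 ((t * e : ℕ) : ℤ))] :
    Module.finrank k (homogeneousSubmodule (Fin r) k t) ≤
      Module.finrank k (𝒜 ((t * e : ℕ) : ℤ)) := by
  let φ : homogeneousSubmodule (Fin r) k t →ₗ[k] 𝒜 ((t * e : ℕ) : ℤ) :=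
    ((aeval θ).toLinearMap.domRestrict (homogeneousSubmodule (Fin r) k t)).codRestrict
      (𝒜 ((t * e : ℕ) : ℤ)) (fun p => aeval_mem hθ p.2)
  refine LinearMap.finrank_le_finrank_of_injective (f := φ) ?_
  intro p q hpq
  have h1 : aeval θ p.1 = aeval θ q.1 := congrArg Subtype.val hpq
  exact Subtype.ext (hind h1)

/-- homogeneous generators of `A` over the subalgebra generated by `θ` -/
theorem exists_homogeneous_generators [Algebra.FiniteType k A]
    (hint : Algebra.IsIntegral (Algebra.adjoin k (Set.range θ)) A) :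
    ∃ (J : Finset (Σ _ : A, ℤ)) (b : (Σ _ : A, ℤ) → A), (∀ j, b j ∈ 𝒜 j.2) ∧
      ∀ z : A, ∃ q : (Σ _ : A, ℤ) → MvPolynomial (Fin r) k,
        z = ∑ j ∈ J, aeval θ (q j) * b j := by
  classical
  set S := Algebra.adjoin k (Set.range θ) with hS
  haveI : Algebra.FiniteType S A := Algebra.FiniteType.of_restrictScalars_finiteType k S A
  haveI : Module.Finite S A := Algebra.IsIntegral.finite
  obtain ⟨G0, hG0⟩ := (Module.Finite.fg_top : (⊤ : Submodule S A).FG)
  refine ⟨G0.sigma (fun g => DFinsupp.support (decompose 𝒜 g)),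
    fun j => (decompose 𝒜 j.1 j.2 : A), fun j => SetLike.coe_mem _, fun z => ?_⟩
  have hz : z ∈ Submodule.span S (G0 : Set A) := by rw [hG0]; trivial
  obtain ⟨f, -, hf⟩ := Submodule.mem_span_finset.1 hz
  have hfS : ∀ g, ∃ p : MvPolynomial (Fin r) k, aeval θ p = (f g : A) := by
    intro g
    have : (f g : A) ∈ (aeval θ : MvPolynomial (Fin r) k →ₐ[k] A).range := by
      rw [← Algebra.adjoin_range_eq_range_aeval]
      exact (f g).2
    exact this
  choose p hp using hfS
  refine ⟨fun j => p j.1, ?_⟩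
  rw [Finset.sum_sigma, ← hf]
  refine Finset.sum_congr rfl (fun g _ => ?_)
  show _ = ∑ s ∈ DFinsupp.support (decompose 𝒜 g), aeval θ (p g) * (decompose 𝒜 g s : A)
  rw [← Finset.mul_sum, DirectSum.sum_support_decompose, hp]
  rfl

/-- the upper bound -/
theorem finrank_le_sum (he : 0 < e) (hθ : ∀ i, θ i ∈ 𝒜 (e : ℤ)) {ι : Type*}
    (J : Finset ι) (b : ι → A) (β : ι → ℤ) (hb : ∀ j, b j ∈ 𝒜 (β j))
    (hgen : ∀ z : A, ∃ q : ι → MvPolynomial (Fin r) k, z = ∑ j ∈ J, aeval θ (q j) * b j)
    (m : ℤ) :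
    Module.Finite k (𝒜 m) ∧ Module.finrank k (𝒜 m) ≤
      ∑ j ∈ J, Module.finrank k (homogeneousSubmodule (Fin r) k ((m - β j) / (e : ℤ)).toNat) := by
  classical
  let φ : ι → MvPolynomial (Fin r) k →ₗ[k] A := fun j =>
    (LinearMap.mulRight k (b j)).comp (aeval θ : MvPolynomial (Fin r) k →ₐ[k] A).toLinearMap
  let τ : ι → ℕ := fun j => ((m - β j) / (e : ℤ)).toNat
  let W : ι → Submodule k A := fun j => (homogeneousSubmodule (Fin r) k (τ j)).map (φ j)
  haveI : ∀ t, Module.Finite k (homogeneousSubmodule (Fin r) k t) := fun t =>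
    Module.Finite.iff_fg.mpr (homogeneousSubmodule_fg _ _ t)
  haveI : ∀ j, FiniteDimensional k (W j) := fun j => inferInstance
  obtain ⟨hfin, hle⟩ := finrank_finset_sup_le J W
  have hsub : 𝒜 m ≤ J.sup W := by
    intro z hz
    obtain ⟨q, hq⟩ := hgen z
    have h1 : z = ∑ j ∈ J, ∑ t ∈ Finset.range ((q j).totalDegree + 1),
        (if ((t * e : ℕ) : ℤ) + β j = m then φ j (homogeneousComponent t (q j)) else 0) := by
      have h2 : z = (decompose 𝒜 z m : A) := (decompose_of_mem_same 𝒜 hz).symm
      rw [h2]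
      conv_lhs => rw [hq]
      rw [decompose_sum, DFinsupp.finsetSum_apply, AddSubmonoidClass.coe_finsetSum]
      refine Finset.sum_congr rfl (fun j _ => ?_)
      conv_lhs => rw [← sum_homogeneousComponent (q j)]
      rw [map_sum, Finset.sum_mul, decompose_sum, DFinsupp.finsetSum_apply,
        AddSubmonoidClass.coe_finsetSum]
      refine Finset.sum_congr rfl (fun t _ => ?_)
      have hmem : aeval θ (homogeneousComponent t (q j)) * b j ∈ 𝒜 (((t * e : ℕ) : ℤ) + β j) :=
        SetLike.mul_mem_graded (aeval_mem hθ (homogeneousComponent_mem t (q j))) (hb j)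
      split_ifs with hc
      · rw [← hc]
        exact decompose_of_mem_same 𝒜 hmem
      · exact decompose_of_mem_ne 𝒜 hmem hc
    rw [h1]
    refine Submodule.sum_mem _ (fun j hj => Submodule.sum_mem _ (fun t _ => ?_))
    refine (Finset.le_sup hj : W j ≤ J.sup W) ?_
    split_ifs with hc
    · have ht : τ j = t := by
        show ((m - β j) / (e : ℤ)).toNat = t
        rw [← hc]
        have h3 : ((((t * e : ℕ) : ℤ) + β j - β j) / (e : ℤ)) = (t : ℤ) := by
          rw [add_sub_cancel_right]
          push_cast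
          exact Int.mul_ediv_cancel _ (by exact_mod_cast he.ne')
        rw [h3]
        simp
      refine ⟨homogeneousComponent t (q j), ?_, rfl⟩
      rw [ht]
      exact homogeneousComponent_mem t (q j)
    · exact Submodule.zero_mem _
  refine ⟨?_, ?_⟩
  · exact Module.Finite.of_injective (Submodule.inclusion hsub) (Submodule.inclusion_injective hsub)
  · calc Module.finrank k (𝒜 m) ≤ Module.finrank k ↥(J.sup W) :=
          LinearMap.finrank_le_finrank_of_injective (Submodule.inclusion_injective hsub)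
      _ ≤ ∑ j ∈ J, Module.finrank k (W j) := hle
      _ ≤ _ := Finset.sum_le_sum (fun j _ => Submodule.finrank_map_le _ _)

end Groth.Agent.Lib.Helper6.HilbDim
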