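import Mathlib
import Groth.Agent.Lib.Helper6.HilbDim.HDc
import Groth.Agent.Lib.Helper6.SegDim.SDd
import Groth.Agent.Lib.Helper9.Cartier1

set_option autoImplicit false
set_option linter.unusedSectionVars false
set_option linter.unusedVariables false
set_option linter.unusedSimpArgs false
set_option linter.style.haveILetI false
set_option maxHeartbeats 400000

/-!
# The degree of the Hilbert polynomial of a graded algebra is its Krull dimension minus one
-/

open DirectSum Filter

universe u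

namespace Groth.Agent.Lib.Helper6.HilbDim

section Growth

open Polynomial

theorem natDegree_le_of_bound (P : ℚ[X]) (s : ℕ) (C₀ : ℚ) (m₀ : ℕ)
    (h : ∀ m : ℕ, m₀ ≤ m → |P.eval (m : ℚ)| ≤ C₀ * ((m : ℚ) + 1) ^ s) : P.natDegree ≤ s := by
  by_contra hlt
  push Not at hlt
  have hP0 : P ≠ 0 := by
    rintro rfl
    simp at hlt
  set Q : ℚ[X] := (X + C 1) ^ s with hQ
  have hQ0 : Q ≠ 0 := pow_ne_zero _ (Polynomial.X_add_C_ne_zero 1)
  have hdegQ : Q.degree = s := by
    rw [hQ, degree_pow, degree_X_add_C]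
    simp
  have hdeg : Q.degree < P.degree := by
    rw [hdegQ, degree_eq_natDegree hP0]
    exact_mod_cast hlt
  have h1 := Polynomial.abs_div_tendsto_atTop_atTop_of_degree_gt P Q hdeg hQ0
  have h2 := h1.comp (tendsto_natCast_atTop_atTop (R := ℚ))
  have h3 := Filter.tendsto_atTop.1 h2 (|C₀| + 1)
  obtain ⟨m, hm1, hm2⟩ := (h3.and (Filter.eventually_ge_atTop m₀)).exists
  have hQm : Q.eval (m : ℚ) = ((m : ℚ) + 1) ^ s := by simp [hQ]
  have hpos : 0 < ((m : ℚ) + 1) ^ s := by positivity
  simp only [Function.comp] at hm1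
  rw [hQm, abs_div, abs_of_pos hpos, le_div_iff₀ hpos] at hm1
  have h4 := h m hm2
  have h5 : C₀ * ((m : ℚ) + 1) ^ s ≤ |C₀| * ((m : ℚ) + 1) ^ s := by
    gcongr
    exact le_abs_self C₀
  nlinarith

theorem le_natDegree_of_bound (P : ℚ[X]) (s e : ℕ) (he : 0 < e) (c : ℚ) (hc : 0 < c) (t₀ : ℕ)
    (h : ∀ t : ℕ, t₀ ≤ t → c * ((t : ℚ) + 1) ^ s ≤ P.eval ((t * e : ℕ) : ℚ)) :
    s ≤ P.natDegree := by
  by_contra hlt
  push Not at hlt
  have hdeg : P.degree < (X ^ s : ℚ[X]).degree := by
    rw [degree_X_pow]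
    exact lt_of_le_of_lt degree_le_natDegree (by exact_mod_cast hlt)
  have h1 := Polynomial.div_tendsto_atTop_zero_of_degree_lt P (X ^ s) hdeg
  have hcast : Tendsto (fun t : ℕ => ((t * e : ℕ) : ℚ)) atTop atTop := by
    refine (tendsto_natCast_atTop_atTop (R := ℚ)).comp ?_
    exact Filter.tendsto_atTop_mono (fun t => Nat.le_mul_of_pos_right t he) tendsto_id
  have h2 := h1.comp hcast
  have hc' : 0 < c / (e : ℚ) ^ s := by positivity
  have h3 := (tendsto_order.1 h2).2 _ hc'
  obtain ⟨t, ht1, ht2, ht3⟩ :=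
    (h3.and ((Filter.eventually_ge_atTop t₀).and (Filter.eventually_ge_atTop 1))).exists
  have h4 := h t ht2
  simp only [Function.comp, eval_pow, eval_X] at ht1
  have htpos : (0 : ℚ) < (t : ℚ) := by exact_mod_cast ht3
  have hepos : (0 : ℚ) < (e : ℚ) := by exact_mod_cast he
  have hpos : (0 : ℚ) < (((t * e : ℕ) : ℚ)) ^ s := by
    push_cast
    positivity
  rw [div_lt_iff₀ hpos] at ht1
  have h5 : c / (e : ℚ) ^ s * (((t * e : ℕ) : ℚ)) ^ s = c * (t : ℚ) ^ s := by
    push_cast
    rw [mul_pow]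
    field_simp
  rw [h5] at ht1
  have h6 : c * (t : ℚ) ^ s ≤ c * ((t : ℚ) + 1) ^ s := by
    gcongr
    linarith
  linarith

end Growth

open MvPolynomial

variable {k : Type u} [Field k] {A : Type u} [CommRing A] [Algebra k A]
  (𝒜 : ℤ → Submodule k A) [GradedAlgebra 𝒜]

theorem exists_ringKrullDim_eq_nat [Algebra.FiniteType k A] [Nontrivial A] :
    ∃ r : ℕ, ringKrullDim A = r := by
  obtain ⟨N, f, hf⟩ := Algebra.FiniteType.iff_quotient_mvPolynomial''.1
    (inferInstance : Algebra.FiniteType k A)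
  have h1 : ringKrullDim A ≤ N := by
    have := ringKrullDim_le_of_surjective f.toRingHom hf
    rw [MvPolynomial.ringKrullDim_of_isNoetherianRing, ringKrullDim_eq_zero_of_field, zero_add,
      Nat.card_fin] at this
    exact this
  have h2 : 0 ≤ ringKrullDim A := ringKrullDim_nonneg_of_nontrivial
  have h3 : ringKrullDim A ≠ ⊥ := fun hb => by
    rw [hb] at h2
    exact absurd h2 (by simp)
  obtain ⟨y, hy⟩ := WithBot.ne_bot_iff_exists.1 h3
  have h4 : y ≠ ⊤ := by
    rintro rfl
    rw [← hy] at h1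
    exact absurd h1 (by
      rw [not_le]
      exact WithBot.coe_lt_coe.2 (ENat.natCast_lt_top N))
  obtain ⟨r, hr⟩ := ENat.ne_top_iff_exists.1 h4
  exact ⟨r, by rw [← hy, ← hr]; rfl⟩

/-- **The degree of the Hilbert polynomial**: for a finitely generated connected `ℕ`-graded
algebra over a field whose Hilbert function agrees with a nonzero polynomial `P` in large degrees,
`dim A = deg P + 1`. -/
theorem ringKrullDim_eq_natDegree_add_one (hpos : ∀ n : ℤ, n < 0 → 𝒜 n = ⊥)
    (h0 : 𝒜 0 = Submodule.span k {(1 : A)}) [Algebra.FiniteType k A] (P : Polynomial ℚ)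
    (hP0 : P ≠ 0)
    (hP : ∃ m₀ : ℕ, ∀ m : ℕ, m₀ ≤ m →
      P.eval (m : ℚ) = (Module.finrank k (𝒜 (m : ℤ)) : ℚ)) :
    ringKrullDim A = (P.natDegree : WithBot ℕ∞) + 1 := by
  classical
  obtain ⟨m₀, hm₀⟩ := hP
  -- the Hilbert function is not eventually zero
  have hZ : ∀ N : ℕ, ∃ m : ℕ, N ≤ m ∧ Module.finrank k (𝒜 (m : ℤ)) ≠ 0 := by
    intro N
    by_contra hcon
    push Not at hcon
    apply hP0
    apply Polynomial.eq_zero_of_infinite_isRoot
    refine Set.Infinite.mono (s := (Nat.cast : ℕ → ℚ) '' Set.Ici (max N m₀)) ?_ ?_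
    · rintro _ ⟨m, hm, rfl⟩
      show P.eval _ = 0
      rw [hm₀ m (le_of_max_le_right hm), hcon m (le_of_max_le_left hm)]
      simp
    · exact (Set.Ici_infinite _).image Nat.cast_injective.injOn
  haveI : Nontrivial A := by
    by_contra hnt
    rw [not_nontrivial_iff_subsingleton] at hnt
    obtain ⟨m, -, hm⟩ := hZ 0
    exact hm Module.finrank_zero_of_subsingleton
  obtain ⟨r, hr⟩ := exists_ringKrullDim_eq_nat (k := k) (A := A)
  obtain ⟨D, hD, hex⟩ := Groth.Agent.Lib.Helper6.SegDim.exists_homogeneous_noether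
    (𝒜 := 𝒜) hpos h0 r hr
  obtain ⟨θ, hθ, hint, hind⟩ := hex 1 one_pos
  rw [one_mul] at hθ
  obtain ⟨J, b, hb, hgen⟩ := exists_homogeneous_generators (𝒜 := 𝒜) (θ := θ) hint
  have hU := fun m => finrank_le_sum (𝒜 := 𝒜) hD hθ J b (fun j => j.2) hb hgen m
  haveI : ∀ m, Module.Finite k (𝒜 m) := fun m => (hU m).1
  have hL := fun t => finrank_le_of_algebraicIndependent (𝒜 := 𝒜) hθ hind t
  have hH : ∀ t, Module.finrank k (homogeneousSubmodule (Fin r) k t) = (r + t - 1).choose t := by
    intro t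
    rw [Groth.Agent.Helper9.CartierLib.finrank_homogeneousSubmodule, Fintype.card_fin]
  -- a bound for the shifts
  obtain ⟨B, hB⟩ : ∃ B : ℕ, ∀ j ∈ J, |j.2| ≤ (B : ℤ) := by
    refine ⟨(J.sup (fun j => j.2.natAbs)), fun j hj => ?_⟩
    have := Finset.le_sup (f := fun j : (Σ _ : A, ℤ) => j.2.natAbs) hj
    rw [Int.abs_eq_natAbs]
    exact_mod_cast this
  rcases r with _ | s
  · -- `r = 0`: the Hilbert function is eventually zero
    exfalso
    obtain ⟨m, hm1, hm2⟩ := hZ (B + D)
    apply hm2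
    have h1 := (hU (m : ℤ)).2
    have h2 : ∑ j ∈ J, Module.finrank k (homogeneousSubmodule (Fin 0) k
        (((m : ℤ) - j.2) / (D : ℤ)).toNat) = 0 := by
      refine Finset.sum_eq_zero (fun j hj => ?_)
      rw [hH]
      have hj' := hB j hj
      have h3 : 1 ≤ (((m : ℤ) - j.2) / (D : ℤ)).toNat := by
        have h4 : (D : ℤ) ≤ (m : ℤ) - j.2 := by
          have := abs_le.1 hj'
          have hm1' : ((B + D : ℕ) : ℤ) ≤ (m : ℤ) := by exact_mod_cast hm1
          push_cast at hm1'
          linarith [this.2]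
        have h5 : (1 : ℤ) ≤ ((m : ℤ) - j.2) / (D : ℤ) := by
          rw [Int.le_ediv_iff_mul_le (by exact_mod_cast hD)]
          linarith
        omega
      generalize (((m : ℤ) - j.2) / (D : ℤ)).toNat = t at h3
      rw [zero_add]
      exact Nat.choose_eq_zero_of_lt (by omega)
    omega
  · -- `r = s + 1`
    rw [hr]
    have hdeg : P.natDegree = s := by
      apply le_antisymm
      · -- upper bound
        refine natDegree_le_of_bound P s ((J.card : ℚ) * ((s : ℚ) + B + 1) ^ s) m₀ (fun m hm => ?_)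
        rw [hm₀ m hm, abs_of_nonneg (by positivity)]
        have h1 := (hU (m : ℤ)).2
        have h2 : ∀ j ∈ J, Module.finrank k (homogeneousSubmodule (Fin (s + 1)) k
            (((m : ℤ) - j.2) / (D : ℤ)).toNat) ≤ (s + (m + B)) ^ s := by
          intro j hj
          rw [hH]
          have hj' := abs_le.1 (hB j hj)
          have h3 : (((m : ℤ) - j.2) / (D : ℤ)).toNat ≤ m + B := by
            have h4 : ((m : ℤ) - j.2) / (D : ℤ) ≤ (m : ℤ) + B := by
              have h5 : (0 : ℤ) ≤ (m : ℤ) + B := by positivity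
              by_cases h6 : (0 : ℤ) ≤ (m : ℤ) - j.2
              · calc ((m : ℤ) - j.2) / (D : ℤ) ≤ (m : ℤ) - j.2 :=
                      Int.ediv_le_self _ h6
                  _ ≤ _ := by linarith [hj'.1]
              · have : ((m : ℤ) - j.2) / (D : ℤ) < 0 :=
                  Int.ediv_neg_of_neg_of_pos (by omega) (by exact_mod_cast hD)
                omega
            omega
          generalize (((m : ℤ) - j.2) / (D : ℤ)).toNat = t at h3
          have h7 : s + 1 + t - 1 = s + t := by omega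
          rw [h7, ← Nat.choose_symm_add (a := s) (b := t)]
          calc (s + t).choose s ≤ (s + t) ^ s := Nat.choose_le_pow _ _
            _ ≤ (s + (m + B)) ^ s := Nat.pow_le_pow_left (by omega) _
        have h8 : Module.finrank k (𝒜 (m : ℤ)) ≤ J.card * (s + (m + B)) ^ s := by
          calc _ ≤ _ := h1
            _ ≤ ∑ j ∈ J, (s + (m + B)) ^ s := Finset.sum_le_sum h2
            _ = _ := by rw [Finset.sum_const, smul_eq_mul]
        have h9 : ((s + (m + B) : ℕ) : ℚ) ≤ ((s : ℚ) + B + 1) * ((m : ℚ) + 1) := by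
          push_cast
          have : (0 : ℚ) ≤ (m : ℚ) := by positivity
          have : (0 : ℚ) ≤ (s : ℚ) := by positivity
          have : (0 : ℚ) ≤ (B : ℚ) := by positivity
          nlinarith
        calc (Module.finrank k (𝒜 (m : ℤ)) : ℚ) ≤ ((J.card * (s + (m + B)) ^ s : ℕ) : ℚ) := by
              exact_mod_cast h8
          _ = (J.card : ℚ) * ((s + (m + B) : ℕ) : ℚ) ^ s := by push_cast; ring
          _ ≤ (J.card : ℚ) * (((s : ℚ) + B + 1) * ((m : ℚ) + 1)) ^ s := by gcongr
          _ = _ := by rw [mul_pow]; ring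
      · -- lower bound
        refine le_natDegree_of_bound P s D hD (1 / (s.factorial : ℚ)) (by positivity) m₀
          (fun t ht => ?_)
        have ht' : m₀ ≤ t * D := le_trans ht (Nat.le_mul_of_pos_right t hD)
        rw [hm₀ (t * D) ht']
        have h1 := hL t
        rw [hH] at h1
        have h7 : s + 1 + t - 1 = s + t := by omega
        rw [h7, ← Nat.choose_symm_add (a := s) (b := t)] at h1
        have h2 := Nat.pow_le_choose (α := ℚ) s (s + t)
        have h3 : s + t + 1 - s = t + 1 := by omega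
        rw [h3] at h2
        calc 1 / (s.factorial : ℚ) * ((t : ℚ) + 1) ^ s
            = ((t + 1 : ℕ) : ℚ) ^ s / (s.factorial : ℚ) := by push_cast; ring
          _ ≤ ((s + t).choose s : ℚ) := h2
          _ ≤ _ := by exact_mod_cast h1
    rw [hdeg]
    push_cast
    rfl

end Groth.Agent.Lib.Helper6.HilbDim
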