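import Mathlib
import Groth.Prelude.Def_GrSyz
import Groth.Agent.Lib.Helper6.HilbDim.HDa

set_option autoImplicit false
set_option linter.unusedSectionVars false
set_option linter.unusedVariables false
set_option linter.unusedSimpArgs false
set_option linter.style.haveILetI false
set_option maxHeartbeats 400000

/-!
# The standard `ℤ`-grading of a quotient of a polynomial ring by a homogeneous ideal
-/

open DirectSum MvPolynomial

universe u v

namespace Groth.Agent.Lib.Helper6.HilbDim

variable (k : Type u) [Field k] (σ : Type v) [Fintype σ] [DecidableEq σ]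

theorem weight_int_eq (d : σ →₀ ℕ) :
    Finsupp.weight (fun _ : σ => (1 : ℤ)) d = ((Finsupp.weight (1 : σ → ℕ) d : ℕ) : ℤ) := by
  rw [Finsupp.weight_apply, Finsupp.weight_apply, Finsupp.sum, Finsupp.sum, Nat.cast_sum]
  refine Finset.sum_congr rfl (fun i _ => ?_)
  simp

theorem mem_stdGr_nat (m : ℕ) (p : MvPolynomial σ k) :
    p ∈ GrSyz.stdGr k σ (m : ℤ) ↔ p ∈ homogeneousSubmodule σ k m := by
  rw [GrSyz.mem_stdGr_iff, mem_homogeneousSubmodule]
  unfold MvPolynomial.IsHomogeneous MvPolynomial.IsWeightedHomogeneous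
  constructor
  · intro h d hd
    have := h hd
    rw [weight_int_eq] at this
    exact_mod_cast this
  · intro h d hd
    rw [weight_int_eq, h hd]

theorem stdGr_nat (m : ℕ) : GrSyz.stdGr k σ (m : ℤ) = homogeneousSubmodule σ k m :=
  Submodule.ext (mem_stdGr_nat k σ m)

theorem stdGr_neg (m : ℤ) (hm : m < 0) : GrSyz.stdGr k σ m = ⊥ := by
  rw [eq_bot_iff]
  intro p hp
  rw [GrSyz.mem_stdGr_iff] at hp
  rw [Submodule.mem_bot]
  by_contra hne
  obtain ⟨d, hd⟩ := MvPolynomial.ne_zero_iff.1 hne
  have := hp hd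
  rw [weight_int_eq] at this
  omega

theorem stdGr_zero : GrSyz.stdGr k σ 0 = Submodule.span k {(1 : MvPolynomial σ k)} := by
  have := stdGr_nat k σ 0
  rw [Nat.cast_zero] at this
  rw [this, homogeneousSubmodule_zero, Submodule.one_eq_span]

variable {k σ}

theorem isHomogeneous_stdGr [GradedAlgebra (homogeneousSubmodule σ k)]
    {I : Ideal (MvPolynomial σ k)}
    (hI : I.IsHomogeneous (homogeneousSubmodule σ k)) : I.IsHomogeneous (GrSyz.stdGr k σ) := by
  obtain ⟨S, hS⟩ := (Ideal.IsHomogeneous.iff_exists (homogeneousSubmodule σ k) I).1 hI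
  rw [hS]
  refine Ideal.homogeneous_span _ _ ?_
  rintro _ ⟨x, _, rfl⟩
  obtain ⟨m, hm⟩ := x.2
  exact ⟨(m : ℤ), (mem_stdGr_nat k σ m _).2 hm⟩

variable (I : Ideal (MvPolynomial σ k))

/-- the grading of the quotient -/
noncomputable abbrev qGr : ℤ → Submodule k (MvPolynomial σ k ⧸ I) := gr (GrSyz.stdGr k σ) I

theorem qGr_neg (m : ℤ) (hm : m < 0) : qGr I m = ⊥ := by
  unfold qGr gr
  rw [stdGr_neg k σ m hm, Submodule.map_bot]

theorem qGr_zero : qGr I 0 = Submodule.span k {(1 : MvPolynomial σ k ⧸ I)} := by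
  unfold qGr gr
  rw [stdGr_zero, Submodule.map_span, Set.image_singleton]
  rfl

/-- the Hilbert function of the quotient in terms of the ideal -/
theorem finrank_qGr (m : ℕ) :
    (Module.finrank k (qGr I (m : ℤ)) : ℤ) =
      Module.finrank k (homogeneousSubmodule σ k m) -
        Module.finrank k ↥(Submodule.restrictScalars k I ⊓ homogeneousSubmodule σ k m) := by
  haveI : Module.Finite k (homogeneousSubmodule σ k m) :=
    Module.Finite.iff_fg.mpr (homogeneousSubmodule_fg σ k m)
  set H := homogeneousSubmodule σ k m with hH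
  let f : H →ₗ[k] (MvPolynomial σ k ⧸ I) := (Ideal.Quotient.mkₐ k I).toLinearMap.domRestrict H
  have h1 := LinearMap.finrank_range_add_finrank_ker f
  have h2 : LinearMap.range f = qGr I (m : ℤ) := by
    unfold qGr gr
    rw [stdGr_nat, LinearMap.range_domRestrict]
  have h3 : LinearMap.ker f = Submodule.comap H.subtype (Submodule.restrictScalars k I ⊓ H) := by
    ext x
    rw [LinearMap.mem_ker, Submodule.mem_comap, Submodule.mem_inf]
    show Ideal.Quotient.mk I x.1 = 0 ↔ _
    rw [Ideal.Quotient.eq_zero_iff_mem]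
    exact ⟨fun h => ⟨h, x.2⟩, fun h => h.1⟩
  have h4 : Module.finrank k (LinearMap.ker f) =
      Module.finrank k ↥(Submodule.restrictScalars k I ⊓ H) := by
    rw [h3]
    exact (Submodule.comapSubtypeEquivOfLe (inf_le_right :
      Submodule.restrictScalars k I ⊓ H ≤ H)).finrank_eq
  rw [h2, h4] at h1
  omega

end Groth.Agent.Lib.Helper6.HilbDim
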